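import Cfsg.Agent.Lib.Invol.SECriterion.Setup
import Cfsg.Agent.Lib.Invol.StronglyEmbedded
import Cfsg.Prelude.Def_Involutions
import Cfsg.Prelude.Def_Local

/-!
# The criterion as a black box for its consumers
-/

set_option autoImplicit false

namespace CfsgLib.SECrit

open Subgroup CfsgLib.Invol

universe u

/-- The strong embedding criterion: for a core-free `M`, `M` meets the subgroup generated by the class of
`z` in a strongly embedded subgroup of it.  (With a core it is false: `L2(4) × C2`, `z = (d, c)`.) -/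
def CritThm : Prop :=
  ∀ (G : Type u) [Group G] [Finite G] (M : Subgroup G) (z : G), Crit M z → M ≠ ⊤ → M.normalCore = ⊥ →
    Cfsg.IsStronglyEmbedded (M.subgroupOf (Subgroup.normalClosure ({z} : Set G)))

variable {G : Type u} [Group G] [Finite G] {M L : Subgroup G}

/-- Strong embedding in a subgroup, read in the group: the fusion property. -/
theorem mem_of_subgroupOf (h : Cfsg.IsStronglyEmbedded (M.subgroupOf L)) {t g : G} (htL : t ∈ L) (htM : t ∈ M)
    (ht : orderOf t = 2) (hgL : g ∈ L) (hg : g * t * g⁻¹ ∈ M) : g ∈ M :=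
  mem_of_conj_mem h (t := ⟨t, htL⟩) (g := ⟨g, hgL⟩) htM (by rw [Subgroup.orderOf_mk]; exact ht) hg

/-- Strong embedding in a subgroup, read in the group: the converse. -/
theorem subgroupOf_of_mem (hL : ¬ L ≤ M) (hex : ∃ t, t ∈ L ∧ t ∈ M ∧ orderOf t = 2)
    (h : ∀ t g : G, t ∈ L → t ∈ M → orderOf t = 2 → g ∈ L → g * t * g⁻¹ ∈ M → g ∈ M) :
    Cfsg.IsStronglyEmbedded (M.subgroupOf L) := by
  obtain ⟨t, htL, htM, ht⟩ := hex
  have heven : Even (Nat.card (M.subgroupOf L)) := even_iff_two_dvd.2 <| by
    have h2 : (⟨t, htL⟩ : L) ∈ M.subgroupOf L := htM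
    have := orderOf_dvd_natCard _ h2
    rwa [Subgroup.orderOf_mk, ht] at this
  refine (stronglyEmbedded_iff (fun e => hL (subgroupOf_eq_top.1 e)) heven).2 ?_
  intro s hs hso g hg
  exact h s g s.2 hs (by rw [Subgroup.orderOf_coe]; exact hso) g.2 hg

/-- The conclusion of the inductive proof gives the criterion. -/
theorem stronglyEmbedded_of_concl {z : G} (hc : Crit M z) (hM : M ≠ ⊤) (h : Concl M z) :
    Cfsg.IsStronglyEmbedded (M.subgroupOf (normalClosure ({z} : Set G))) := by
  have hzL : z ∈ normalClosure ({z} : Set G) := subset_normalClosure (Set.mem_singleton z)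
  refine subgroupOf_of_mem (fun hle => hM (eq_top_iff.2 fun g _ => hc.fuse g (hle ?_)))
    ⟨z, hzL, hc.mem, hc.invol⟩ fun t g htL htM ht _ hg => ?_
  · exact normalClosure_normal.conj_mem z hzL g
  · obtain ⟨k, rfl⟩ := isConj_iff.1 (h t htL ht)
    have hk : k ∈ M := hc.fuse k htM
    have hgk : g * k ∈ M := hc.fuse (g * k) (by simpa [mul_assoc] using hg)
    exact (mul_mem_cancel_right hk).1 hgk

/-- The criterion from the inductive step. -/
theorem critThm_of_setup
    (hstep : ∀ (G : Type u) [Group G] [Finite G] (M : Subgroup G) (z : G), Setup M z → Concl M z) :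
    CritThm.{u} := fun G _ _ M z hc hM hcore =>
  stronglyEmbedded_of_concl hc hM (concl_of_setup hstep G M z hc hM hcore)

/-- In a simple group the criterion gives a strongly embedded subgroup. -/
theorem stronglyEmbedded_of_simple [IsSimpleGroup G] (hCT : CritThm.{u}) {z : G} (hc : Crit M z) (hM : M ≠ ⊤) :
    Cfsg.IsStronglyEmbedded M := by
  have hcore : M.normalCore = ⊥ :=
    (inferInstance : M.normalCore.Normal).eq_bot_or_eq_top.resolve_right fun e =>
      hM (eq_top_iff.2 (e ▸ M.normalCore_le))
  have h := hCT G M z hc hM hcore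
  have htop : normalClosure ({z} : Set G) = ⊤ :=
    normalClosure_normal.eq_bot_or_eq_top.resolve_left fun e => by
      have hz : z ∈ normalClosure ({z} : Set G) := subset_normalClosure (Set.mem_singleton z)
      rw [e, mem_bot] at hz
      exact invol_ne_one hc.invol hz
  have heven : Even (Nat.card M) := even_iff_two_dvd.2 (hc.invol ▸ orderOf_dvd_natCard _ hc.mem)
  refine (stronglyEmbedded_iff hM heven).2 fun t ht hto g hg => ?_
  exact mem_of_subgroupOf h (htop ▸ mem_top t) ht hto (htop ▸ mem_top g) hg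

/-- A subgroup of odd index meets every class of involutions. -/
theorem exists_conj_mem (hM : Odd M.index) {t : G} (ht : orderOf t = 2) : ∃ g : G, g * t * g⁻¹ ∈ M := by
  haveI : Fact (Nat.Prime 2) := ⟨Nat.prime_two⟩
  have hA : IsPGroup 2 (zpowers t) := IsPGroup.of_card (n := 1) (by rw [Nat.card_zpowers, ht, pow_one])
  obtain ⟨a, ha⟩ := hA.nonempty_fixed_point_of_prime_not_dvd_card (G ⧸ M)
    (fun h => Nat.not_even_iff_odd.2 hM (even_iff_two_dvd.2 h))
  obtain ⟨k, rfl⟩ := QuotientGroup.mk_surjective a
  have h1 : t • (k : G ⧸ M) = (k : G ⧸ M) := ha ⟨t, mem_zpowers t⟩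
  rw [smul_coe_eq_iff] at h1
  exact ⟨k⁻¹, by simpa using h1⟩

/-- The criterion without the hypothesis on the core, provided no involution of the core lies in the normal
closure. -/
theorem stronglyEmbedded_of_core (hCT : CritThm.{u}) {z : G} (hc : Crit M z) (hM : M ≠ ⊤)
    (hodd : ∀ t ∈ normalClosure ({z} : Set G), t ∈ M.normalCore → orderOf t ≠ 2) :
    Cfsg.IsStronglyEmbedded (M.subgroupOf (normalClosure ({z} : Set G))) := by
  obtain ⟨h1, h2, h3⟩ := hc.quotient hM
  have h := hCT _ _ _ h1 h2 h3
  set π := QuotientGroup.mk' M.normalCore with hπ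
  have hmap : (normalClosure ({z} : Set G)).map π = normalClosure {π z} := by
    rw [map_normalClosure _ π (QuotientGroup.mk'_surjective _), Set.image_singleton]
  refine subgroupOf_of_mem ?_ ⟨z, subset_normalClosure (Set.mem_singleton z), hc.mem, hc.invol⟩ ?_
  · intro hle
    have hzc : z ∈ M.normalCore := ((normal_le_normalCore (H := M)).2 hle) (subset_normalClosure (Set.mem_singleton z))
    exact hodd z (subset_normalClosure (Set.mem_singleton z)) hzc hc.invol
  · intro t g htL htM ht hgL hgt
    have hto : orderOf (π t) = 2 := orderOf_eq_prime (hp := ⟨Nat.prime_two⟩)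
      (by rw [← map_pow, ← ht, pow_orderOf_eq_one, map_one])
      (fun e => hodd t htL ((QuotientGroup.eq_one_iff t).1 e) ht)
    have hg := mem_of_subgroupOf h (hmap ▸ mem_map_of_mem π htL) (mem_map_of_mem π htM) hto
      (hmap ▸ mem_map_of_mem π hgL) (g := π g) (by
        rw [← map_inv, ← map_mul, ← map_mul]; exact mem_map_of_mem π hgt)
    rwa [← mem_comap, comap_map_eq_self (by rw [hπ, QuotientGroup.ker_mk']; exact M.normalCore_le)] at hg

end CfsgLib.SECrit
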