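import Cfsg.Agent.Lib.Invol.SECriterion.Consumers.Statement
import Cfsg.Agent.Lib.Invol.SECriterion.Instances
import Cfsg.Agent.Lib.Invol.Basic
import Cfsg.Agent.Lib.Invol.KleinPair

/-!
# The criterion for a strongly closed two-subgroup
-/

set_option autoImplicit false

namespace CfsgLib.SECrit

open Subgroup CfsgLib.Invol

universe u

variable {G : Type u} [Group G] [Finite G]

theorem conj_mem_strongly_closed {S : Sylow 2 G} {T : Subgroup G} (hT : Cfsg.IsStronglyClosed T (S : Subgroup G))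
    {g x : G} (hg : g ∈ normalizer ((S : Subgroup G) : Set G)) (hx : x ∈ T) : g * x * g⁻¹ ∈ T :=
  hT.2 x hx g ((mem_normalizer_iff.1 hg x).1 (hT.1 hx))

/-- A proper subgroup containing the centralizers of the involutions of a strongly closed subgroup and the
normalizer of the Sylow subgroup gives the setting. -/
theorem crit_of_strongly_closed (S : Sylow 2 G) (T : Subgroup G) (hT : Cfsg.IsStronglyClosed T (S : Subgroup G))
    (hT1 : T ≠ ⊥) {M : Subgroup G} (hC : ∀ t ∈ T, orderOf t = 2 → centralizer ({t} : Set G) ≤ M)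
    (hN : normalizer ((S : Subgroup G) : Set G) ≤ M) : ∃ z ∈ T, Crit M z := by
  haveI : Fact (Nat.Prime 2) := ⟨Nat.prime_two⟩
  have hSM : (S : Subgroup G) ≤ M := le_normalizer.trans hN
  -- a central involution in `T`
  obtain ⟨z, hzT, hz, hzc⟩ : ∃ z ∈ T, orderOf z = 2 ∧ ∀ s ∈ (S : Subgroup G), Commute s z := by
    haveI : (T.subgroupOf (S : Subgroup G)).Normal := (normal_subgroupOf_iff_le_normalizer hT.1).2 fun s hs =>
      mem_normalizer_iff.2 fun x => ⟨fun hx => conj_mem_strongly_closed hT (le_normalizer hs) hx,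
        fun hx => by simpa [mul_assoc] using conj_mem_strongly_closed hT (inv_mem (le_normalizer hs)) hx⟩
    have hne : T.subgroupOf (S : Subgroup G) ≠ ⊥ := fun e => hT1 (le_bot_iff.1
      ((subgroupOf_eq_bot.1 e) le_rfl hT.1))
    haveI : Group.IsNilpotent ↥(S : Subgroup G) := S.isPGroup'.isNilpotent
    have hi := CfsgLib.Coprime.nilpotent_inf_center_ne_bot (T.subgroupOf (S : Subgroup G)) hne
    obtain ⟨k, hk⟩ := (S.isPGroup'.to_subgroup
      (T.subgroupOf (S : Subgroup G) ⊓ center ↥(S : Subgroup G))).exists_card_eq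
    have hk0 : k ≠ 0 := fun h0 => hi (Subgroup.eq_bot_of_card_eq _ (by rw [hk, h0, pow_zero]))
    obtain ⟨w, hw, hwo⟩ := exists_invol_mem (H := T.subgroupOf (S : Subgroup G) ⊓ center ↥(S : Subgroup G))
      (by rw [hk]; exact Nat.even_pow.2 ⟨even_two, hk0⟩)
    exact ⟨w, hw.1, by rw [Subgroup.orderOf_coe]; exact hwo,
      fun s hs => congrArg Subtype.val (mem_center_iff.1 hw.2 ⟨s, hs⟩)⟩
  have hzS : (z : G) ∈ (S : Subgroup G) := hT.1 hzT
  have hzM : z ∈ M := hSM hzS
  have hidx : Odd M.index := odd_index_of_sylow_le S hSM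
  -- conjugation into `S`
  have hinto : ∀ {Q : Subgroup G}, Q ≤ M → IsPGroup 2 Q → ∃ m ∈ M, ∀ x ∈ Q, m * x * m⁻¹ ∈ (S : Subgroup G) := by
    intro Q hQM hQ
    obtain ⟨m, hm⟩ := exists_conj_le_sylow (hQ.comap_of_injective M.subtype M.subtype_injective) (S.subtype hSM)
    exact ⟨m, m.2, fun x hx => hm ⟨x, hQM hx⟩ hx⟩
  -- fusion
  have hfuse : ∀ g : G, g * z * g⁻¹ ∈ M → g ∈ M := by
    intro g hg
    obtain ⟨m, hm, hmS⟩ := hinto (Q := zpowers (g * z * g⁻¹)) (zpowers_le.2 hg)
      (IsPGroup.of_card (n := 1) (by rw [Nat.card_zpowers, invol_conj hz g, pow_one]))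
    have ht : (m * g) * z * (m * g)⁻¹ ∈ (S : Subgroup G) := by
      have := hmS _ (mem_zpowers _)
      simpa [mul_assoc] using this
    have htT := hT.2 z hzT (m * g) ht
    have hto := invol_conj hz (m * g)
    set k := m * g with hk
    set Sk : Sylow 2 G := k • S with hSk
    have hSkC : (Sk : Subgroup G) ≤ M := by
      refine le_trans ?_ (hC _ htT hto)
      intro x hx
      rw [hSk, Sylow.coe_subgroup_smul, mem_smul_pointwise_iff_exists] at hx
      obtain ⟨s, hs, rfl⟩ := hx
      rw [mem_centralizer_singleton_iff]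
      show k * s * k⁻¹ * (k * z * k⁻¹) = k * z * k⁻¹ * (k * s * k⁻¹)
      calc k * s * k⁻¹ * (k * z * k⁻¹) = k * (s * z) * k⁻¹ := by group
        _ = k * (z * s) * k⁻¹ := by rw [(hzc s hs).eq]
        _ = k * z * k⁻¹ * (k * s * k⁻¹) := by group
    obtain ⟨a, ha⟩ := MulAction.exists_smul_eq M (Sk.subtype hSkC) (S.subtype hSM)
    simp_rw [hSk, Sylow.smul_subtype, Subgroup.smul_def, smul_smul] at ha
    have hak := Sylow.smul_eq_iff_mem_normalizer.mp (Sylow.subtype_injective ha)
    have : (a : G) * k ∈ M := hN hak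
    have h2 : k ∈ M := (mul_mem_cancel_left a.2).1 this
    exact (mul_mem_cancel_left hm).1 (hk ▸ h2)
  refine ⟨z, hzT, hz, hzM, ?_, hfuse, ?_⟩
  · exact odd_index_of_sylow_le S fun s hs => mem_centralizer_singleton_iff.2 (hzc s hs)
  · intro g hcomm hne
    set e := g * z * g⁻¹ with he
    have heM : e ∈ M := hC z hzT hz (mem_centralizer_singleton_iff.2 hcomm.symm.eq)
    have heo : orderOf e = 2 := invol_conj hz g
    obtain ⟨m, hm, hmS⟩ := hinto (Q := Subgroup.closure {z, e})
      ((closure_le _).2 (by rintro x (rfl | rfl) <;> assumption))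
      (IsPGroup.of_card (n := 2) (by
        haveI := CfsgLib.Invol.isKleinFour_closure_pair hz heo (Ne.symm hne) hcomm
        rw [IsKleinFour.card_four]; norm_num))
    have h1 := hmS z (subset_closure (Set.mem_insert _ _))
    have h2 := hmS e (subset_closure (Set.mem_insert_of_mem _ rfl))
    have h1T := hT.2 z hzT m h1
    have h2T : m * e * m⁻¹ ∈ T := by
      have := hT.2 z hzT (m * g) (by rw [show m * g * z * (m * g)⁻¹ = m * e * m⁻¹ by rw [he]; group]; exact h2)
      rwa [show m * g * z * (m * g)⁻¹ = m * e * m⁻¹ by rw [he]; group] at this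
    have hprodT : m * (z * e) * m⁻¹ ∈ T := by
      rw [show m * (z * e) * m⁻¹ = (m * z * m⁻¹) * (m * e * m⁻¹) by group]
      exact mul_mem h1T h2T
    have hzeo : orderOf (z * e) = 2 := by
      rw [invol_iff]
      refine ⟨?_, fun hh => hne ((eq_inv_of_mul_eq_one_left hh).trans (invol_inv heo)).symm⟩
      rw [mul_assoc, ← mul_assoc e z, ← hcomm.eq, mul_assoc z, invol_mul_self heo, mul_one, invol_mul_self hz]
    intro c hc
    have hc' : m * c * m⁻¹ ∈ M := hC _ hprodT (invol_conj hzeo m) (mem_centralizer_singleton_iff.2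
      (by
        show m * c * m⁻¹ * (m * (z * e) * m⁻¹) = m * (z * e) * m⁻¹ * (m * c * m⁻¹)
        have := mem_centralizer_singleton_iff.1 hc
        calc m * c * m⁻¹ * (m * (z * e) * m⁻¹) = m * (c * (z * e)) * m⁻¹ := by group
          _ = m * ((z * e) * c) * m⁻¹ := by rw [this]
          _ = m * (z * e) * m⁻¹ * (m * c * m⁻¹) := by group))
    simpa [mul_assoc] using mul_mem (mul_mem (inv_mem hm) hc') hm

/-- The statement of S1174, given the criterion. -/
theorem stronglyClosed_of_critThm (hCT : CritThm.{u}) [IsSimpleGroup G] (S : Sylow 2 G) (T : Subgroup G)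
    (hT1 : T ≠ ⊥) (hT : Cfsg.IsStronglyClosed T (S : Subgroup G))
    (hprop : (⨆ t : {t : G // t ∈ T ∧ orderOf t = 2}, centralizer ({(t : G)} : Set G)) ≠ ⊤) :
    ∃ H : Subgroup G, Cfsg.IsStronglyEmbedded H := by
  haveI : Fact (Nat.Prime 2) := ⟨Nat.prime_two⟩
  set W : Subgroup G := ⨆ t : {t : G // t ∈ T ∧ orderOf t = 2}, centralizer ({(t : G)} : Set G) with hW
  have hCW : ∀ t ∈ T, orderOf t = 2 → centralizer ({t} : Set G) ≤ W := fun t ht hto =>
    le_iSup_of_le (f := fun t : {t : G // t ∈ T ∧ orderOf t = 2} => centralizer ({(t : G)} : Set G))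
      ⟨t, ht, hto⟩ le_rfl
  obtain ⟨i, hi, hio⟩ : ∃ i ∈ T, orderOf i = 2 := by
    obtain ⟨k, hk⟩ := (S.2.to_le hT.1).exists_card_eq
    exact exists_invol_mem (by
      rw [hk]
      exact Nat.even_pow.2 ⟨even_two, fun h0 => hT1 (Subgroup.eq_bot_of_card_eq _ (by rw [hk, h0, pow_zero]))⟩)
  have hNW : normalizer ((S : Subgroup G) : Set G) ≤ normalizer (W : Set G) := by
    intro g hg
    have key : ∀ h ∈ normalizer ((S : Subgroup G) : Set G), W.map (MulAut.conj h).toMonoidHom ≤ W := by
      intro h hh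
      rw [hW, Subgroup.map_iSup]
      refine iSup_le fun t => ?_
      rintro _ ⟨c, hc, rfl⟩
      refine hCW _ (conj_mem_strongly_closed hT hh t.2.1) (invol_conj t.2.2 h) ?_
      rw [mem_centralizer_singleton_iff]
      show h * c * h⁻¹ * (h * t * h⁻¹) = h * t * h⁻¹ * (h * c * h⁻¹)
      have := mem_centralizer_singleton_iff.1 hc
      calc h * c * h⁻¹ * (h * t * h⁻¹) = h * (c * t) * h⁻¹ := by group
        _ = h * (t * c) * h⁻¹ := by rw [this]
        _ = h * t * h⁻¹ * (h * c * h⁻¹) := by group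
    refine mem_normalizer_iff.2 fun x => ⟨fun hx => key g hg ⟨x, hx, rfl⟩, fun hx => ?_⟩
    have := key g⁻¹ (inv_mem hg) ⟨_, hx, rfl⟩
    simpa [mul_assoc] using this
  have hMtop : normalizer (W : Set G) ≠ ⊤ := by
    intro e
    haveI : W.Normal := normalizer_eq_top_iff.1 e
    rcases (inferInstance : W.Normal).eq_bot_or_eq_top with e' | e'
    · have := hCW i hi hio (mem_centralizer_singleton_iff.2 (rfl : i * i = i * i))
      rw [e', mem_bot] at this
      exact invol_ne_one hio this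
    · exact hprop e'
  obtain ⟨z, -, hc⟩ := crit_of_strongly_closed S T hT hT1
    (fun t ht hto => (hCW t ht hto).trans le_normalizer) hNW
  exact ⟨_, stronglyEmbedded_of_simple hCT hc hMtop⟩

end CfsgLib.SECrit
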