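import Cfsg.Agent.Lib.Invol.SECriterion.Consumers.Statement
import Cfsg.Agent.Lib.Invol.SECriterion.Instances

/-!
# The criterion in a simple group
-/

set_option autoImplicit false

namespace CfsgLib.SECrit

universe u

variable {G : Type u} [Group G] [Finite G]

/-- The statement of S1175, given the criterion. -/
theorem criterion_of_critThm (hCT : CritThm.{u}) [IsSimpleGroup G] (M : Subgroup G) (hM : M ≠ ⊤) (z : G)
    (hz : orderOf z = 2) (hzM : z ∈ M) (h1 : ∃ S : Sylow 2 G, z ∈ S ∧ ∀ s ∈ S, Commute s z)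
    (h2 : ∀ g : G, g * z * g⁻¹ ∈ M → g ∈ M)
    (h3 : ∀ g : G, Commute z (g * z * g⁻¹) → g * z * g⁻¹ ≠ z →
      Subgroup.centralizer ({z * (g * z * g⁻¹)} : Set G) ≤ M) :
    ∃ H : Subgroup G, Cfsg.IsStronglyEmbedded H :=
  ⟨M, stronglyEmbedded_of_simple hCT (crit_of_criterion hz hzM h1 h2 h3) hM⟩

end CfsgLib.SECrit
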