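import Cfsg.Agent.Lib.Invol.SECriterion.Consumers.Statement
import Cfsg.Agent.Lib.Invol.SECriterion.Instances
import Cfsg.Agent.Lib.Coprime.Component
import Cfsg.Agent.S0205

/-!
# The criterion for an almost simple group
-/

set_option autoImplicit false

namespace CfsgLib.SECrit

open Subgroup CfsgLib.Invol

universe u

variable {G : Type u} [Group G] [Finite G]

/-- With a simple generalized Fitting subgroup the criterion gives a strongly embedded subgroup of it. -/
theorem exists_stronglyEmbedded_fitting (hCT : CritThm.{u})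
    (hF : IsSimpleGroup ↥(Cfsg.generalizedFittingSubgroup G))
    (hF' : ¬ IsMulCommutative ↥(Cfsg.generalizedFittingSubgroup G)) {M : Subgroup G} {z : G} (hc : Crit M z)
    (hM : M ≠ ⊤) (hcore : M.normalCore = ⊥) :
    ∃ K : Subgroup ↥(Cfsg.generalizedFittingSubgroup G), Cfsg.IsStronglyEmbedded K := by
  set F := Cfsg.generalizedFittingSubgroup G with hFdef
  haveI : F.Normal := CfsgLib.Coprime.generalizedFitting_normal
  haveI := hF
  set L := normalClosure ({z} : Set G) with hL
  haveI : L.Normal := normalClosure_normal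
  have h := hCT G M z hc hM hcore
  have hzL : z ∈ L := subset_normalClosure (Set.mem_singleton z)
  -- `F ≤ L`
  have hFL : F ≤ L := by
    haveI : (L.subgroupOf F).Normal := inferInstance
    rcases Subgroup.Normal.eq_bot_or_eq_top (inferInstance : (L.subgroupOf F).Normal) with e | e
    · exfalso
      have hdis : L ⊓ F = ⊥ := disjoint_iff.1 (subgroupOf_eq_bot.1 e)
      have hcom : ∀ f ∈ F, f * z = z * f := fun f hf =>
        commute_of_normal_of_disjoint F L inferInstance inferInstance (disjoint_iff.2 (by rw [inf_comm, hdis]))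
          f z hf hzL
      have hzC : z ∈ centralizer (F : Set G) := mem_centralizer_iff.2 fun f hf => hcom f hf
      have hzF : z ∈ F := CfsgLib.Coprime.centralizer_generalizedFitting_le hzC
      have : z ∈ L ⊓ F := ⟨hzL, hzF⟩
      rw [hdis, mem_bot] at this
      exact invol_ne_one hc.invol this
    · exact subgroupOf_eq_top.1 e
  -- an involution of `F` in `M`
  have heven : Even (Nat.card F) := by
    by_contra hodd
    haveI : Group.IsSolvable ↥F := Cfsg.Agent.S0205.result (Nat.not_even_iff_odd.1 hodd)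
    exact hF' ⟨⟨IsSimpleGroup.comm_iff_isSolvable.2 inferInstance⟩⟩
  obtain ⟨s, hs, hso⟩ := exists_invol_mem heven
  obtain ⟨g, hg⟩ := exists_conj_mem hc.odd_index hso
  have hgF : g * s * g⁻¹ ∈ F := (inferInstance : F.Normal).conj_mem s hs g
  have hgo := invol_conj hso g
  -- `F` is not inside `M`
  have hFM : ¬ F ≤ M := fun hle => h.1 (eq_top_iff.2 fun l _ =>
    mem_of_subgroupOf h (hFL hgF) hg hgo l.2 (hle ((inferInstance : F.Normal).conj_mem _ hgF _)))
  exact ⟨M.subgroupOf F, subgroupOf_of_mem hFM ⟨_, hgF, hg, hgo⟩ fun t k htF htM hto hk hkt =>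
    mem_of_subgroupOf h (hFL htF) htM hto (hFL hk) hkt⟩

/-- The statement of S3121, given the criterion. -/
theorem tightlyEmbedded_of_critThm (hCT : CritThm.{u})
    (hF : IsSimpleGroup ↥(Cfsg.generalizedFittingSubgroup G))
    (hF' : ¬ IsMulCommutative ↥(Cfsg.generalizedFittingSubgroup G))
    (H : Subgroup G) (hH : Cfsg.IsTightlyEmbedded H)
    (hodd : ∀ g : G, g ∉ Subgroup.normalizer (H : Set G) →
      Odd (Nat.card ↥(H.map (MulAut.conj g).toMonoidHom ⊓ Subgroup.normalizer (H : Set G)))) :
    H.Normal ∨ ∃ M : Subgroup ↥(Cfsg.generalizedFittingSubgroup G), Cfsg.IsStronglyEmbedded M := by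
  by_cases hN : Subgroup.normalizer (H : Set G) = ⊤
  · exact Or.inl (normalizer_eq_top_iff.1 hN)
  · obtain ⟨g₀, hg₀⟩ : ∃ g, g ∉ Subgroup.normalizer (H : Set G) := by
      by_contra hcon
      push Not at hcon
      exact hN (eq_top_iff.2 fun g _ => hcon g)
    obtain ⟨z, -, hz⟩ := crit_of_tight hodd hH.1 hg₀
    refine Or.inr (exists_stronglyEmbedded_fitting hCT hF hF' hz hN ?_)
    haveI := hF
    set N := Subgroup.normalizer (H : Set G) with hNdef
    set F := Cfsg.generalizedFittingSubgroup G with hFdef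
    haveI : F.Normal := CfsgLib.Coprime.generalizedFitting_normal
    haveI : N.normalCore.Normal := normalCore_normal N
    have hcent : ∀ A : Subgroup G, F ≤ normalizer (A : Set G) → A ≤ normalizer (F : Set G) → A ⊓ F = ⊥ →
        A = ⊥ := by
      intro A hFA hAF hdis
      rw [eq_bot_iff]
      intro a ha
      have hcomm : ∀ f ∈ F, f * a = a * f := by
        intro f hf
        have h1 : f * a * f⁻¹ * a⁻¹ ∈ A ⊓ F :=
          mem_inf.2 ⟨mul_mem ((mem_normalizer_iff.1 (hFA hf) a).1 ha) (inv_mem ha), by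
            rw [show f * a * f⁻¹ * a⁻¹ = f * (a * f⁻¹ * a⁻¹) by group]
            exact mul_mem hf ((mem_normalizer_iff.1 (hAF ha) f⁻¹).1 (inv_mem hf))⟩
        rw [hdis, mem_bot] at h1
        calc f * a = f * a * f⁻¹ * a⁻¹ * (a * f) := by group
          _ = a * f := by rw [h1, one_mul]
      have haF : a ∈ F :=
        CfsgLib.Coprime.centralizer_generalizedFitting_le (mem_centralizer_iff.2 fun f hf => hcomm f hf)
      exact hdis ▸ (⟨ha, haF⟩ : a ∈ A ⊓ F)
    by_contra hcore
    have hFN : F ≤ N := by
      rcases Subgroup.Normal.eq_bot_or_eq_top (inferInstance : (N.normalCore.subgroupOf F).Normal) with e | e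
      · exact absurd (hcent N.normalCore (by rw [normalizer_eq_top]; exact le_top)
          (by rw [normalizer_eq_top]; exact le_top) (disjoint_iff.1 (subgroupOf_eq_bot.1 e))) hcore
      · exact (subgroupOf_eq_top.1 e).trans N.normalCore_le
    haveI : (H.subgroupOf F).Normal := ⟨fun y hy f => mem_subgroupOf.2
      ((mem_normalizer_iff.1 (hFN f.2) y).1 (mem_subgroupOf.1 hy))⟩
    rcases Subgroup.Normal.eq_bot_or_eq_top (inferInstance : (H.subgroupOf F).Normal) with e | e
    · have hbot := hcent H hFN (by rw [normalizer_eq_top]; exact le_top) (disjoint_iff.1 (subgroupOf_eq_bot.1 e))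
      exact hN (normalizer_eq_top_iff.2 (hbot.symm ▸ (inferInstance : (⊥ : Subgroup G).Normal)))
    · have hFH : F ≤ H := subgroupOf_eq_top.1 e
      have heven : Even (Nat.card F) := by
        by_contra ho
        haveI : Group.IsSolvable ↥F := Cfsg.Agent.S0205.result (Nat.not_even_iff_odd.1 ho)
        exact hF' ⟨⟨IsSimpleGroup.comm_iff_isSolvable.2 inferInstance⟩⟩
      obtain ⟨s, hs, hso⟩ := exists_invol_mem heven
      refine Nat.not_even_iff_odd.2 (hodd g₀ hg₀) (even_card_of_invol_mem ⟨?_, hFN hs⟩ hso)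
      exact ⟨g₀⁻¹ * s * g₀, hFH (by
        simpa using (inferInstance : F.Normal).conj_mem s hs g₀⁻¹), by simp [mul_assoc]⟩

end CfsgLib.SECrit
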