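import Cfsg.Agent.Lib.Invol.SECriterion.Consumers.Statement
import Cfsg.Agent.Lib.Invol.ZStar
import Cfsg.Agent.Lib.Coprime.Core

/-!
# The action of the class on the core

A conjugate of `z` is central modulo the odd core of `M.normalCore`.
-/

set_option autoImplicit false
set_option linter.style.haveILetI false

namespace CfsgLib.SECrit

open Subgroup CfsgLib.Invol

universe u

variable {G : Type u} [Group G] [Finite G] {M : Subgroup G} {z : G}

/-- No conjugate of `z` under the core commutes with `z` apart from `z`. -/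
theorem Crit.core_conj_eq (hc : Crit M z) (hM : M ≠ ⊤) {n : G} (hn : n ∈ M.normalCore)
    (hcomm : Commute z (n * z * n⁻¹)) : n * z * n⁻¹ = z := by
  by_contra hne
  have hzp : z • ((1 : G) : G ⧸ M) = ((1 : G) : G ⧸ M) := by rw [smul_coe_eq_iff]; simpa using hc.mem
  have hprod : z * (n * z * n⁻¹) ∈ M.normalCore := by
    rw [show z * (n * z * n⁻¹) = (z * n * z⁻¹) * n⁻¹ by rw [invol_inv hc.invol]; group]
    exact mul_mem ((normalCore_normal M).conj_mem n hn z) (inv_mem hn)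
  obtain ⟨q, hq⟩ : ∃ q : G ⧸ M, q ≠ ((1 : G) : G ⧸ M) := by
    by_contra hh; push Not at hh
    exact hM (eq_top_iff.2 fun x _ => by simpa [QuotientGroup.eq] using (hh (x : G ⧸ M)).symm)
  exact hq (hc.exists_mul_fix (IsConj.refl z) (isConj_iff.2 ⟨n, rfl⟩) hcomm (Ne.symm hne) hzp
    (forall_smul_of_mem_core hprod q))

/-- `z` centralizes the core modulo an odd normal subgroup of `G` inside the core. -/
theorem Crit.commutator_core_mem (hc : Crit M z) (hM : M ≠ ⊤) {n : G} (hn : n ∈ M.normalCore) :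
    z * n * z⁻¹ * n⁻¹ ∈ (Cfsg.pPrimeCore 2 ↥M.normalCore).map M.normalCore.subtype := by
  haveI : Fact (Nat.Prime 2) := ⟨Nat.prime_two⟩
  set N := M.normalCore with hN
  haveI : N.Normal := normalCore_normal M
  set X := N ⊔ zpowers z with hX
  have hzX : z ∈ X := mem_sup_right (mem_zpowers z)
  have hNX : N ≤ X := le_sup_left
  have hiso : Cfsg.IsIsolatedInvolution (⟨z, hzX⟩ : X) := by
    refine ⟨by rw [Subgroup.orderOf_mk]; exact hc.invol, fun g hg => ?_⟩
    obtain ⟨m, hm, y, hy, hgy⟩ := mem_sup_of_normal_left.1 g.2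
    obtain ⟨k, rfl⟩ := mem_zpowers_iff.1 hy
    have e : (g : G) * z * (g : G)⁻¹ = m * z * m⁻¹ := by
      rw [← hgy]
      calc m * z ^ k * z * (m * z ^ k)⁻¹ = m * (z ^ k * z * (z ^ k)⁻¹) * m⁻¹ := by group
        _ = m * z * m⁻¹ := by rw [(Commute.zpow_self z k).eq, mul_inv_cancel_right]
    have hg' : Commute z ((g : G) * z * (g : G)⁻¹) := congrArg Subtype.val hg
    refine Subtype.ext ?_
    show (g : G) * z * (g : G)⁻¹ = z
    rw [e] at hg' ⊢
    exact hc.core_conj_eq hM hm hg'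
  have h := zstar hiso ⟨n, hNX hn⟩
  set J := ((Cfsg.pPrimeCore 2 X).map X.subtype).subgroupOf N with hJ
  haveI : J.Normal := ⟨fun x hx g => by
    rw [hJ, mem_subgroupOf] at hx ⊢
    obtain ⟨y, hy, hyx⟩ := hx
    exact ⟨⟨g, hNX g.2⟩ * y * ⟨g, hNX g.2⟩⁻¹,
      (inferInstance : (Cfsg.pPrimeCore 2 X).Normal).conj_mem y hy _, by simp [← hyx]⟩⟩
  have hJodd : ¬ 2 ∣ Nat.card J := by
    intro hd
    obtain ⟨w, hw⟩ := exists_prime_orderOf_dvd_card' (G := J) 2 hd
    obtain ⟨y, hy, hye⟩ := (w.2 : ((w : N) : G) ∈ (Cfsg.pPrimeCore 2 X).map X.subtype)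
    have hyo : orderOf y = 2 := by
      rw [← Subgroup.orderOf_coe, show (y : G) = ((w : N) : G) from hye, Subgroup.orderOf_coe,
        Subgroup.orderOf_coe, hw]
    have h2 : 2 ∣ Nat.card (Cfsg.pPrimeCore 2 X) := by
      have := orderOf_dvd_natCard (⟨y, hy⟩ : Cfsg.pPrimeCore 2 X)
      rwa [Subgroup.orderOf_mk, hyo] at this
    exact CfsgLib.Coprime.pPrimeCore_not_dvd Nat.prime_two h2
  have hmem : z * n * z⁻¹ * n⁻¹ ∈ N :=
    mul_mem ((inferInstance : N.Normal).conj_mem n hn z) (inv_mem hn)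
  refine ⟨⟨_, hmem⟩, CfsgLib.Coprime.le_pPrimeCore_of_not_dvd Nat.prime_two hJodd ?_, rfl⟩
  rw [hJ, mem_subgroupOf]
  exact ⟨_, h, rfl⟩

end CfsgLib.SECrit
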