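import Cfsg.Agent.Lib.Invol.SECriterion.Consumers.CoreAction
import Cfsg.Agent.Lib.Invol.SECriterion.Instances
import Cfsg.Agent.Lib.Fusion.Sylow

/-!
# The inductive form of the criterion
-/

set_option autoImplicit false
set_option linter.style.haveILetI false

namespace CfsgLib.SECrit

open Subgroup CfsgLib.Invol

universe u

variable {G : Type u} [Group G] [Finite G]

/-- The statement of S1913, given the criterion. -/
theorem inductive_of_critThm (hCT : CritThm.{u}) (P : Sylow 2 G) (z : G) (hz2 : orderOf z = 2)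
    (hzP : z ∈ (Subgroup.center ↥(P : Subgroup G)).map (P : Subgroup G).subtype)
    (H : Subgroup G) (hH : H ≠ ⊤) (hi : ∀ g : G, z ∈ H.map (MulAut.conj g).toMonoidHom ↔ g ∈ H)
    (hii : ∀ u : G, orderOf u = 2 → u * z = z * u → ¬ Subgroup.centralizer ({u} : Set G) ≤ H →
      Cfsg.IsStronglyEmbedded (H.subgroupOf (Subgroup.closure {x : G | IsConj z x ∧ x * u = u * x}))) :
    Cfsg.IsStronglyEmbedded (H.subgroupOf (Subgroup.normalClosure ({z} : Set G))) := by
  haveI : Fact (Nat.Prime 2) := ⟨Nat.prime_two⟩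
  have hc : Crit H z := crit_of_local_data P hz2 hzP hi hii
  refine stronglyEmbedded_of_core hCT hc hH fun v hvK hvN hv => ?_
  set N := H.normalCore with hN
  haveI : N.Normal := normalCore_normal H
  set O := (Cfsg.pPrimeCore 2 ↥N).map N.subtype with hO
  haveI : (Cfsg.pPrimeCore 2 ↥N).Characteristic := CfsgLib.Coprime.pPrimeCore_characteristic 2
  haveI : O.Normal := inferInstance
  obtain ⟨w, hw, rfl⟩ := hzP
  have hwc : ∀ s ∈ (P : Subgroup G), Commute (w : G) s := fun s hs =>
    (congrArg Subtype.val (mem_center_iff.1 hw ⟨s, hs⟩)).symm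
  set RG := (P : Subgroup G) ⊓ N with hRG
  have hRp : IsPGroup 2 (RG.subgroupOf N) := (P.2.to_le inf_le_left).comap_of_injective N.subtype N.subtype_injective
  set R : Sylow 2 N := hRp.toSylow (CfsgLib.Fusion.not_dvd_relIndex_inf_of_normal P N) with hR
  have hRc : (R : Subgroup N) = RG.subgroupOf N := rfl
  set T := {x : G | ∃ g ∈ normalizer (RG : Set G), x = g * (w : G) * g⁻¹} with hT
  set L := closure T with hL
  have hLR : ∀ l ∈ L, ∀ r ∈ RG, Commute l r := by
    intro l hl r hr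
    induction hl using closure_induction with
    | mem x hx =>
      obtain ⟨g, hg, rfl⟩ := hx
      have h1 := hwc (g⁻¹ * r * g) ((mem_normalizer_iff''.1 hg r).1 hr).1
      show g * w * g⁻¹ * r = r * (g * w * g⁻¹)
      calc g * (w : G) * g⁻¹ * r = g * ((w : G) * (g⁻¹ * r * g)) * g⁻¹ := by group
        _ = g * ((g⁻¹ * r * g) * (w : G)) * g⁻¹ := by rw [h1.eq]
        _ = r * (g * (w : G) * g⁻¹) := by group
    | one => exact Commute.one_left r
    | mul a b _ _ iha ihb => exact iha.mul_left ihb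
    | inv a _ iha => exact iha.inv_left
  have hfr : normalizer (RG : Set G) ⊔ N = ⊤ := by
    have h1 := Sylow.normalizer_sup_eq_top R
    have h2 : ((R : Subgroup N)).map N.subtype = RG := by
      rw [hRc, subgroupOf_map_subtype, inf_eq_left.2 (inf_le_right : RG ≤ N)]
    rwa [h2] at h1
  -- the class lies in `L O`
  have hcls : normalClosure ({(w : G)} : Set G) ≤ L ⊔ O := by
    refine (closure_le _).2 fun x hx => ?_
    rw [Group.mem_conjugatesOfSet_iff] at hx
    obtain ⟨_, rfl, hx⟩ := hx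
    obtain ⟨g, rfl⟩ := isConj_iff.1 hx
    obtain ⟨a, ha, n, hn, hg⟩ := mem_sup_of_normal_right.1 (hfr.symm ▸ mem_top g : g ∈ normalizer (RG : Set G) ⊔ N)
    have h1 := hc.commutator_core_mem hH hn
    have h2 : a * ((w : G) * n * (w : G)⁻¹ * n⁻¹) * a⁻¹ ∈ O :=
      (inferInstance : O.Normal).conj_mem _ h1 a
    have e : g * (w : G) * g⁻¹ =
        (a * ((w : G) * n * (w : G)⁻¹ * n⁻¹) * a⁻¹)⁻¹ * (a * (w : G) * a⁻¹) := by
      rw [← hg]; group
    rw [SetLike.mem_coe, e]
    exact mul_mem (mem_sup_right (inv_mem h2)) (mem_sup_left (subset_closure ⟨a, ha, rfl⟩))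
  obtain ⟨l, hl, o, ho, hlo⟩ := mem_sup_of_normal_right.1 (hcls hvK)
  have hON : O ≤ N := map_subtype_le _
  have hlN : l ∈ N := by
    rw [show l = v * o⁻¹ by rw [← hlo]; group]
    exact mul_mem hvN (inv_mem (hON ho))
  have hl2 : 2 ∣ orderOf l := by
    by_contra hodd
    -- otherwise `v` would have odd order modulo `O`
    let φ := QuotientGroup.mk' O
    have hφ : φ v = φ l := by
      rw [← hlo, map_mul, show φ o = 1 from (QuotientGroup.eq_one_iff o).2 ho, mul_one]
    have h1 : orderOf (φ v) ∣ orderOf l := hφ ▸ orderOf_map_dvd φ l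
    have h2 : orderOf (φ v) ∣ 2 := hv ▸ orderOf_map_dvd φ v
    have hvO : v ∈ O := (QuotientGroup.eq_one_iff v).1 (orderOf_eq_one_iff.1
      (Nat.eq_one_of_dvd_coprimes (Nat.prime_two.coprime_iff_not_dvd.2 hodd) h2 h1))
    obtain ⟨y, hy, rfl⟩ := hvO
    have h3 := orderOf_dvd_natCard (⟨y, hy⟩ : Cfsg.pPrimeCore 2 ↥N)
    rw [Subgroup.orderOf_mk, ← Subgroup.orderOf_coe, show ((y : N) : G) = N.subtype y from rfl, hv] at h3
    exact CfsgLib.Coprime.pPrimeCore_not_dvd Nat.prime_two h3
  set u := l ^ (orderOf l / 2) with hu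
  have huo : orderOf u = 2 := orderOf_pow_half (even_iff_two_dvd.2 hl2)
  have huL : u ∈ L := pow_mem hl _
  have huN : u ∈ N := pow_mem hlN _
  -- `u` lies in the Sylow subgroup of the core
  have huR : u ∈ RG := by
    have hcomR : ∀ r ∈ (R : Subgroup N), Commute (⟨u, huN⟩ : N) r := fun r hr =>
      Subtype.ext (hLR u huL r (by rwa [hRc, mem_subgroupOf] at hr)).eq
    have hp : IsPGroup 2 (zpowers (⟨u, huN⟩ : N)) :=
      IsPGroup.of_card (n := 1) (by rw [Nat.card_zpowers, Subgroup.orderOf_mk, huo, pow_one])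
    have hle : zpowers (⟨u, huN⟩ : N) ≤ normalizer ((R : Subgroup N) : Set N) := zpowers_le.2 <|
      mem_normalizer_iff.2 fun r => ⟨fun hr => by rw [(hcomR r hr).eq, mul_inv_cancel_right]; exact hr,
        fun hr => by
          have := (hcomR _ hr).inv_left.eq
          have e : r = (⟨u, huN⟩ : N)⁻¹ * (⟨u, huN⟩ * r * (⟨u, huN⟩ : N)⁻¹) * ⟨u, huN⟩ := by group
          rw [e, this, inv_mul_cancel_right]; exact hr⟩
    have h2 := mem_zpowers (⟨u, huN⟩ : N)
    have h3 : (⟨u, huN⟩ : N) ∈ (R : Subgroup N) := ((hp.inf_normalizer_sylow R).le ⟨h2, hle h2⟩).2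
    rwa [hRc, mem_subgroupOf] at h3
  have huw : u * (w : G) = (w : G) * u := (hwc u huR.1).symm.eq
  have hnle : ¬ centralizer ({u} : Set G) ≤ H := by
    intro hle
    refine hH (top_le_iff.1 (hfr.ge.trans (sup_le (fun g hg => hc.fuse g (hle ?_)) H.normalCore_le)))
    rw [mem_centralizer_singleton_iff]
    exact (hLR _ (subset_closure ⟨g, hg, rfl⟩) u huR).eq
  have hse := hii u huo huw hnle
  set L' := closure {x : G | IsConj (w : G) x ∧ x * u = u * x} with hL'
  have hLL : L ≤ L' := (closure_le _).2 fun x hx => by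
    obtain ⟨g, hg, rfl⟩ := hx
    exact subset_closure ⟨isConj_iff.2 ⟨g, rfl⟩, (hLR _ (subset_closure ⟨g, hg, rfl⟩) u huR).eq⟩
  obtain ⟨g, hg⟩ : ∃ g : L', g ∉ H.subgroupOf L' := by
    by_contra hh
    push Not at hh
    exact hse.1 (eq_top_iff.2 fun x _ => hh x)
  have hgu : Commute (g : G) u := by
    have hcl : L' ≤ centralizer ({u} : Set G) := (closure_le _).2 fun x hx =>
      mem_centralizer_singleton_iff.2 hx.2
    exact mem_centralizer_singleton_iff.1 (hcl g.2)
  refine hg (mem_of_subgroupOf hse (hLL huL) (H.normalCore_le huN) huo g.2 ?_)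
  show (g : G) * u * (g : G)⁻¹ ∈ H
  rw [hgu.eq, mul_inv_cancel_right]
  exact H.normalCore_le huN

end CfsgLib.SECrit
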